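import Cfsg.Agent.H352.KS.Defs

/-!
# S4577, classical rows: the two parts of `PC` (helper352)

* `PC1` : the complement `D₀` of the kernel in the (abelian) preimage of `D`.
* `PC2` : the idempotent `e` of a weight and the element `t`, for given `D₀`.
-/

set_option autoImplicit false

open Cfsg Cfsg.Agent.H613.KS

namespace Cfsg.Agent.H352.KS

/-- `D₀` is a `y`-invariant elementary abelian subgroup of `X` which `π` maps isomorphically onto `D` -/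
structure Cmp {R : Type*} [Ring R] (X : Subgroup Rˣ) {S : Type*} [Group S] (π : X →* S) (D : Subgroup S)
    (y : X) (D₀ : Subgroup X) : Prop where
  map : D₀.map π = D
  inj : ∀ d ∈ D₀, π d = 1 → d = 1
  sq : ∀ d ∈ D₀, d * d = 1
  norm : ∀ d : X, y * d * y⁻¹ ∈ D₀ ↔ d ∈ D₀

/-- (C1) the complement -/
def PC1 : Prop :=
  ∀ {F R S : Type} [Field F] [Ring R] [Algebra F R] [Finite R] [Group S] (_ : (2 : F) ≠ 0) (σ : R →+ R)
    (I X : Subgroup Rˣ) (π : X →* S) (_ : Frame σ I X π)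
    (D : Subgroup S) (x : S) (y₀ : X) (_ : Cfg D x) (_ : Five D (π y₀)) (_ : ∃ m : ℕ, orderOf y₀ = 5 ^ m)
    (_ : ∀ a b : X, π a ∈ D → π b ∈ D → a * b = b * a),
    ∃ D₀ : Subgroup X, Cmp X π D y₀ D₀

/-- (C2) the weights -/
def PC2 : Prop :=
  ∀ {F R S : Type} [Field F] [Ring R] [Algebra F R] [Finite R] [Group S] (_ : (2 : F) ≠ 0) (σ : R →+ R)
    (_ : ∀ (c : F) (r : R), σ (c • r) = c • σ r) (I X : Subgroup Rˣ) (π : X →* S) (_ : Frame σ I X π)
    (D : Subgroup S) (x : S) (y₀ : X) (_ : Cfg D x) (_ : Five D (π y₀)) (_ : ∃ m : ℕ, orderOf y₀ = 5 ^ m)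
    (D₀ : Subgroup X) (_ : Cmp X π D y₀ D₀),
    ∃ (e : R) (t : X), Wt σ X π D y₀ D₀ e t

theorem pc_of (h1 : PC1) (h2 : PC2) : PC := by
  intro F R S _ _ _ _ _ h σ hσ I X π hF D x y₀ hc hy hm hab
  obtain ⟨D₀, hD⟩ := h1 h σ I X π hF D x y₀ hc hy hm hab
  obtain ⟨e, t, ht⟩ := h2 h σ hσ I X π hF D x y₀ hc hy hm D₀ hD
  exact ⟨D₀, e, t, ht⟩

end Cfsg.Agent.H352.KS
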