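import Cfsg.Agent.H613.KS.Defs
import Cfsg.Prelude.Def_Classical

/-!
# S4577, rows `PSp_2m(q)` and `POmega_n(q)`, `q` odd: the frame (helper352)

`R` a finite algebra over a field of odd characteristic with an involution `σ`, `I` its group of isometries
(`σ u * u = 1`), `X ≤ I` a normal subgroup with abelian quotient of order at most 4, normalised by the similitudes of
multiplier 2, `π : X → S` surjective with kernel in `{1, -1}`.  `Frame` collects this.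

* `PA` (nonabelian preimage): in a configuration the preimage of `D` in `X` is abelian.
* `PC` (weights): the complement `D₀` of the kernel in the preimage of `D` and the idempotent `e` of a weight.
* `PD` : the instances.
-/

set_option autoImplicit false

open Cfsg Cfsg.Agent.H613.KS

namespace Cfsg.Agent.H352.KS

/-- the frame: isometries `I` of the involution `σ`, the subgroup `X`, the epimorphism `π` -/
structure Frame {R : Type*} [Ring R] (σ : R →+ R) (I X : Subgroup Rˣ) {S : Type*} [Group S] (π : X →* S) : Prop where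
  one : σ 1 = 1
  anti : ∀ a b : R, σ (a * b) = σ b * σ a
  mem : ∀ u : Rˣ, u ∈ I ↔ σ (u : R) * u = 1
  le : X ≤ I
  comm : ∀ a ∈ I, ∀ b ∈ I, a * b * a⁻¹ * b⁻¹ ∈ X
  idx : X.relIndex I ≤ 4
  sim : ∀ s : Rˣ, σ (s : R) * s = 2 → ∀ g ∈ X, s * g * s⁻¹ ∈ X
  surj : Function.Surjective π
  ker : ∀ z : X, π z = 1 → ((z : Rˣ) : R) = 1 ∨ ((z : Rˣ) : R) = -1

/-- the complement `D₀` and the idempotent `e` of a weight; `e_i = y^i e y^-i` are orthogonal for `i < 5` -/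
structure Wt {R : Type*} [Ring R] (σ : R →+ R) (X : Subgroup Rˣ) {S : Type*} [Group S] (π : X →* S) (D : Subgroup S)
    (y : X) (D₀ : Subgroup X) (e : R) (t : X) : Prop where
  map : D₀.map π = D
  inj : ∀ d ∈ D₀, π d = 1 → d = 1
  sq : ∀ d ∈ D₀, d * d = 1
  norm : ∀ d : X, y * d * y⁻¹ ∈ D₀ ↔ d ∈ D₀
  ne : e ≠ 0
  star : σ e = e
  idem : e * e = e
  orth : ∀ i : ℕ, 1 ≤ i → i ≤ 4 → e * (((y ^ i : X) : Rˣ) * e * (((y ^ i : X)⁻¹ : X) : Rˣ)) = 0
  five : (((y ^ 5 : X) : Rˣ) : R) * e = e * ((y ^ 5 : X) : Rˣ)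
  cent : ∀ r : R, (∀ d ∈ D₀, ((d : Rˣ) : R) * r = r * (d : Rˣ)) → e * r = r * e
  sgn : ∀ d ∈ D₀, ((d : Rˣ) : R) * e = e ∨ ((d : Rˣ) : R) * e = -e
  mem : t ∈ D₀
  val : ((t : Rˣ) : R) = 1 - 2 * (e + (y : Rˣ) * e * ((y⁻¹ : X) : Rˣ))
  surj : ∀ g : X, (∀ d ∈ D, π g * d = d * π g) → ∀ d ∈ D₀, g * d = d * g

/-- (A) the preimage of `D` is abelian -/
def PA : Prop :=
  ∀ {F R S : Type} [Field F] [Ring R] [Algebra F R] [Finite R] [Group S] (_ : (2 : F) ≠ 0) (σ : R →+ R)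
    (I X : Subgroup Rˣ) (π : X →* S) (_ : Frame σ I X π) (D : Subgroup S) (x y : S) (_ : Cfg D x) (_ : Five D y),
    ∀ a b : X, π a ∈ D → π b ∈ D → a * b = b * a

/-- (C) the weights -/
def PC : Prop :=
  ∀ {F R S : Type} [Field F] [Ring R] [Algebra F R] [Finite R] [Group S] (_ : (2 : F) ≠ 0) (σ : R →+ R)
    (_ : ∀ (c : F) (r : R), σ (c • r) = c • σ r) (I X : Subgroup Rˣ) (π : X →* S) (_ : Frame σ I X π)
    (D : Subgroup S) (x : S) (y₀ : X) (_ : Cfg D x) (_ : Five D (π y₀)) (_ : ∃ m : ℕ, orderOf y₀ = 5 ^ m)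
    (_ : ∀ a b : X, π a ∈ D → π b ∈ D → a * b = b * a),
    ∃ (D₀ : Subgroup X) (e : R) (t : X), Wt σ X π D y₀ D₀ e t

/-- (D1) the symplectic groups -/
def PD1 : Prop :=
  ∀ {F : Type} [Field F] [Finite F] (_ : (2 : F) ≠ 0) (m : ℕ) (_ : 1 ≤ m),
    ∃ (σ : Matrix (Fin m ⊕ Fin m) (Fin m ⊕ Fin m) F →+ Matrix (Fin m ⊕ Fin m) (Fin m ⊕ Fin m) F)
      (I X : Subgroup (Matrix (Fin m ⊕ Fin m) (Fin m ⊕ Fin m) F)ˣ) (π : X →* PSp m F),
      Frame σ I X π ∧ ∀ (c : F) (M), σ (c • M) = c • σ M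

/-- (D2) the orthogonal groups -/
def PD2 : Prop :=
  ∀ {F : Type} [Field F] [Finite F] (_ : (2 : F) ≠ 0) {ι : Type} [Fintype ι] [DecidableEq ι]
    (Q : QuadraticForm F (ι → F)) (_ : (QuadraticMap.polarBilin Q).Nondegenerate) (_ : 3 ≤ Fintype.card ι)
    (_ : ∃ u : ι → F, u ≠ 0 ∧ Q u = 0),
    ∃ (σ : Matrix ι ι F →+ Matrix ι ι F) (I X : Subgroup (Matrix ι ι F)ˣ) (π : X →* Cfsg.POmega F (⇑Q)),
      Frame σ I X π ∧ ∀ (c : F) (M), σ (c • M) = c • σ M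

end Cfsg.Agent.H352.KS
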