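import Mathlib

/-!
# S4577, classical rows: the ring part (helper352)

`e`, `e₁ = y e y⁻¹` orthogonal idempotents; `W = y e + y⁻¹ e₁ + (1 - e - e₁)` is an involution which interchanges them.
-/

set_option autoImplicit false

namespace Cfsg.Agent.H352.KS

variable {R : Type*} [Ring R]

/-- the relations of `y`, `y' = y⁻¹`, `e`, `e1 = y e y⁻¹` -/
structure Sw (y y' e e1 : R) : Prop where
  yy' : y * y' = 1
  y'y : y' * y = 1
  ee : e * e = e
  e11 : e1 * e1 = e1
  ee1 : e * e1 = 0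
  e1e : e1 * e = 0
  ye : y * e = e1 * y
  y'e : y' * e1 = e * y'

/-- the swap -/
def Wv (y y' e e1 : R) : R := y * e + y' * e1 + (1 - e - e1)

namespace Sw

variable {y y' e e1 : R} (h : Sw y y' e e1)
include h

theorem eye : e * (y * e) = 0 := by rw [h.ye, ← mul_assoc, h.ee1, zero_mul]

theorem e1y'e1 : e1 * (y' * e1) = 0 := by rw [h.y'e, ← mul_assoc, h.e1e, zero_mul]

theorem We : Wv y y' e e1 * e = y * e := by
  unfold Wv
  rw [add_mul, add_mul, sub_mul, sub_mul, one_mul, mul_assoc, mul_assoc, h.ee, h.e1e]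
  simp

theorem We1 : Wv y y' e e1 * e1 = y' * e1 := by
  unfold Wv
  rw [add_mul, add_mul, sub_mul, sub_mul, one_mul, mul_assoc, mul_assoc, h.e11, h.ee1]
  simp

theorem eW : e * Wv y y' e e1 = y' * e1 := by
  unfold Wv
  rw [mul_add, mul_add, mul_sub, mul_sub, mul_one, h.eye, h.y'e, ← mul_assoc e e y', h.ee, h.ee1]
  simp

theorem e1W : e1 * Wv y y' e e1 = y * e := by
  unfold Wv
  rw [mul_add, mul_add, mul_sub, mul_sub, mul_one, h.e1y'e1, h.ye, ← mul_assoc e1 e1 y, h.e11, h.e1e]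
  simp

theorem WW : Wv y y' e e1 * Wv y y' e e1 = 1 := by
  have h1 : Wv y y' e e1 * (y * e) = e := by
    rw [h.ye, ← mul_assoc, h.We1, mul_assoc, ← h.ye, ← mul_assoc, h.y'y, one_mul]
  have h2 : Wv y y' e e1 * (y' * e1) = e1 := by
    rw [h.y'e, ← mul_assoc, h.We, mul_assoc, ← h.y'e, ← mul_assoc, h.yy', one_mul]
  have h3 : Wv y y' e e1 = y * e + y' * e1 + (1 - e - e1) := rfl
  have h4 : Wv y y' e e1 * (1 - e - e1) = 1 - e - e1 := by
    rw [mul_sub, mul_sub, mul_one, h.We, h.We1]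
    nth_rewrite 1 [h3]
    abel
  nth_rewrite 2 [h3]
  rw [mul_add, mul_add, h1, h2, h4]
  abel

theorem WeW : Wv y y' e e1 * e * Wv y y' e e1 = e1 := by
  rw [mul_assoc, h.eW, h.y'e, ← mul_assoc, h.We, mul_assoc, ← h.y'e, ← mul_assoc, h.yy', one_mul]

theorem We1W : Wv y y' e e1 * e1 * Wv y y' e e1 = e := by
  rw [mul_assoc, h.e1W, h.ye, ← mul_assoc, h.We1, mul_assoc, ← h.ye, ← mul_assoc, h.y'y, one_mul]

/-- `W` commutes with the elements which are trivial on `e`, `e1` -/
theorem W_comm {c : R} (hce : c * e = e) (hce1 : c * e1 = e1) (hec : e * c = e) (he1c : e1 * c = e1) :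
    Wv y y' e e1 * c = c * Wv y y' e e1 := by
  have h1 : c * (y * e) = y * e := by
    rw [h.ye, ← mul_assoc, hce1]
  have h2 : c * (y' * e1) = y' * e1 := by
    rw [h.y'e, ← mul_assoc, hce]
  unfold Wv
  rw [add_mul, add_mul, sub_mul, sub_mul, one_mul, mul_assoc y, mul_assoc y', hec, he1c, mul_add, mul_add, h1, h2,
    mul_sub, mul_sub, mul_one, hce, hce1]

/-- conjugation of an element supported on `e` -/
theorem W_conj {a : R} (ha : a * (1 - e) = 1 - e) (hea : e * a = a * e) :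
    Wv y y' e e1 * a * Wv y y' e e1 = y * a * y' := by
  have h1 : a = e * a * e + (1 - e) := by
    rw [hea, mul_assoc, h.ee, ← ha, mul_sub, mul_one]
    abel
  have h2 : Wv y y' e e1 * (e * a * e) * Wv y y' e e1 = y * (a * e) * y' := by
    calc Wv y y' e e1 * (e * a * e) * Wv y y' e e1 = (Wv y y' e e1 * e) * a * (e * Wv y y' e e1) := by
          simp only [mul_assoc]
      _ = y * (e * a) * (y' * e1) := by rw [h.We, h.eW]; simp only [mul_assoc]
      _ = y * (e * a) * (e * y') := by rw [h.y'e]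
      _ = y * (a * (e * e)) * y' := by rw [hea]; simp only [mul_assoc]
      _ = _ := by rw [h.ee]
  have h3 : Wv y y' e e1 * (1 - e) * Wv y y' e e1 = y * (1 - e) * y' := by
    rw [mul_sub, mul_one, sub_mul, h.WW, h.WeW, mul_sub, mul_one, sub_mul, h.yy', h.ye, mul_assoc, h.yy', mul_one]
  have h4 : a * e + (1 - e) = a := by
    rw [← ha, mul_sub, mul_one]
    abel
  calc Wv y y' e e1 * a * Wv y y' e e1
      = Wv y y' e e1 * (e * a * e + (1 - e)) * Wv y y' e e1 := by rw [← h1]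
    _ = y * (a * e) * y' + y * (1 - e) * y' := by rw [mul_add, add_mul, h2, h3]
    _ = y * (a * e + (1 - e)) * y' := by rw [mul_add, add_mul]
    _ = y * a * y' := by rw [h4]

/-- the mirrored relations -/
theorem symm : Sw y' y e1 e := ⟨h.y'y, h.yy', h.e11, h.ee, h.e1e, h.ee1, h.y'e, h.ye⟩

omit h in
theorem Wv_symm (y y' e e1 : R) : Wv y' y e1 e = Wv y y' e e1 := by
  unfold Wv
  abel

/-- conjugation of an element supported on `e1` -/
theorem W_conj' {b : R} (hb : b * (1 - e1) = 1 - e1) (heb : e1 * b = b * e1) :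
    Wv y y' e e1 * b * Wv y y' e e1 = y' * b * y := by
  have := h.symm.W_conj hb heb
  rwa [Wv_symm] at this

/-- conjugation of a diagonal element -/
theorem W_diag {d s0 s1 : R} (hed : e * d = d * e) (hed1 : e1 * d = d * e1) (h0 : d * e = s0 * e)
    (h1 : d * e1 = s1 * e1) (hs0 : Wv y y' e e1 * s0 = s0 * Wv y y' e e1) (hs1 : Wv y y' e e1 * s1 = s1 * Wv y y' e e1) :
    Wv y y' e e1 * d * Wv y y' e e1 = s0 * e1 + s1 * e + d * (1 - e - e1) := by
  have e1' : Wv y y' e e1 * (1 - e - e1) = 1 - e - e1 := by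
    have h3 : Wv y y' e e1 = y * e + y' * e1 + (1 - e - e1) := rfl
    rw [mul_sub, mul_sub, mul_one, h.We, h.We1]
    nth_rewrite 1 [h3]
    abel
  have e2' : (1 - e - e1) * Wv y y' e e1 = 1 - e - e1 := by
    have h3 : Wv y y' e e1 = y * e + y' * e1 + (1 - e - e1) := rfl
    rw [sub_mul, sub_mul, one_mul, h.eW, h.e1W]
    nth_rewrite 1 [h3]
    abel
  have e3 : (1 - e - e1) * (1 - e - e1) = 1 - e - e1 := by
    rw [mul_sub, mul_sub, mul_one, sub_mul, sub_mul, sub_mul, sub_mul, one_mul, one_mul, h.ee, h.e1e, h.ee1, h.e11]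
    abel
  have e4 : d * (1 - e - e1) = (1 - e - e1) * d := by
    rw [mul_sub, mul_sub, sub_mul, sub_mul, mul_one, one_mul, hed, hed1]
  have e5 : d = s0 * e + s1 * e1 + (1 - e - e1) * d * (1 - e - e1) := by
    rw [← e4, mul_assoc, e3, mul_sub, mul_sub, mul_one, h0, h1]
    abel
  have e6 : Wv y y' e e1 * ((1 - e - e1) * d * (1 - e - e1)) * Wv y y' e e1 = d * (1 - e - e1) := by
    calc Wv y y' e e1 * ((1 - e - e1) * d * (1 - e - e1)) * Wv y y' e e1
        = (Wv y y' e e1 * (1 - e - e1)) * d * ((1 - e - e1) * Wv y y' e e1) := by simp only [mul_assoc]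
      _ = (1 - e - e1) * d * (1 - e - e1) := by rw [e1', e2']
      _ = _ := by rw [← e4, mul_assoc, e3]
  have e7 : Wv y y' e e1 * (s0 * e) * Wv y y' e e1 = s0 * e1 := by
    rw [← mul_assoc, hs0, mul_assoc s0, mul_assoc s0, h.WeW]
  have e8 : Wv y y' e e1 * (s1 * e1) * Wv y y' e e1 = s1 * e := by
    rw [← mul_assoc, hs1, mul_assoc s1, mul_assoc s1, h.We1W]
  nth_rewrite 1 [e5]
  rw [mul_add, mul_add, add_mul, add_mul, e6, e7, e8]

end Sw

/-- commuting factors -/
theorem comm_of_supp {a b r : R} (ha : a * (1 - r) = 1 - r) (hb : b * r = r) (har : a * r = r * a)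
    (hbr : b * r = r * b) : a * b = b * a := by
  have h1 : a * b * r = b * a * r := by
    rw [mul_assoc, hb, mul_assoc, har, ← mul_assoc, hb]
  have h2 : a * b * (1 - r) = b * a * (1 - r) := by
    have e1 : b * (1 - r) = (1 - r) * b := by rw [mul_sub, sub_mul, mul_one, one_mul, hbr]
    rw [mul_assoc, e1, ← mul_assoc, ha, mul_assoc, ha, e1]
  calc a * b = a * b * r + a * b * (1 - r) := by rw [← mul_add, add_sub_cancel, mul_one]
    _ = b * a * r + b * a * (1 - r) := by rw [h1, h2]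
    _ = b * a := by rw [← mul_add, add_sub_cancel, mul_one]

end Cfsg.Agent.H352.KS
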